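import Groth.Agent.Lib.GenFree.Presentation
import Mathlib.RingTheory.Flat.TorsionFree
import Mathlib.RingTheory.Nilpotent.Lemmas
import Mathlib.RingTheory.TensorProduct.Basic
import Mathlib.RingTheory.Ideal.MinimalPrime.Noetherian

/-!
# A coordinate of a non-zero element of a flat module of finite type
-/

set_option autoImplicit false
universe u

open TensorProduct

namespace EtSlice6

/-- Let `B` be a reduced Noetherian ring, `A` a `B`-algebra of finite type, `M` a finite `A`-module,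
flat over `B`, and `v ≠ 0` in `M`. There is `c ≠ 0` in `B` such that `v` does not vanish at any
field point of `B` at which `c` does not vanish. -/
theorem exists_coord {B A M : Type u} [CommRing B] [IsReduced B] [IsNoetherianRing B] [CommRing A]
    [Algebra B A] [Algebra.FiniteType B A] [AddCommGroup M] [Module A M] [Module B M]
    [IsScalarTower B A M] [Module.Finite A M] [Module.Flat B M] {v : M} (hv : v ≠ 0) :
    ∃ c : B, c ≠ 0 ∧ ∀ (K : Type u) [Field K] [Algebra B K],
      algebraMap B K c ≠ 0 → (1 : K) ⊗ₜ[B] v ≠ 0 := by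
  classical
  let S : Finset (Ideal B) := (Ideal.finite_minimalPrimes_of_isNoetherianRing (R := B) ⊥).toFinset
  have hS : ∀ P, P ∈ S ↔ P ∈ (⊥ : Ideal B).minimalPrimes := fun P => Set.Finite.mem_toFinset _
  have hsInf : ∀ z : B, (∀ P ∈ S, z ∈ P) → z = 0 := by
    intro z hz
    have h1 : z ∈ sInf (⊥ : Ideal B).minimalPrimes :=
      Submodule.mem_sInf.mpr fun P hP => hz P ((hS P).mpr hP)
    rw [Ideal.sInf_minimalPrimes, ← Ideal.zero_eq_bot, ← nilradical, nilradical_eq_zero] at h1
    exact h1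
  obtain ⟨η, hη, hηv⟩ : ∃ η ∈ S, ∀ s ∉ η, s • v ≠ 0 := by
    by_contra hcon
    push Not at hcon
    let J : Ideal B := (LinearMap.toSpanSingleton B M v).ker
    have hJ : ¬ (J : Set B) ⊆ ⋃ P ∈ (↑S : Set (Ideal B)), (id P : Ideal B) := by
      intro hsub
      obtain ⟨P, hP, hle⟩ := (Ideal.subset_union_prime ⊥ ⊥ fun P hP _ _ =>
        ((hS P).mp hP).1.1).mp hsub
      obtain ⟨s, hs, hsv⟩ := hcon P hP
      exact hs (hle hsv)
    obtain ⟨s, hsJ, hs⟩ := Set.not_subset.mp hJ
    have hreg : IsSMulRegular B s := by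
      refine IsSMulRegular.of_right_eq_zero_of_smul fun b hb => hsInf b fun P hP => ?_
      have hmem : s * b ∈ P := by rw [← smul_eq_mul, hb]; exact zero_mem _
      exact (((hS P).mp hP).1.1.mem_or_mem hmem).resolve_left
        fun h => hs (Set.mem_biUnion hP h)
    exact hv ((Module.Flat.isSMulRegular_of_isRegular
      (⟨hreg, fun a b h => hreg (show s * a = s * b by rw [mul_comm s a, mul_comm s b]; exact h)⟩ : IsRegular s) : IsSMulRegular M s)
      (show s • v = s • (0 : M) by rw [smul_zero]; exact hsJ))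
  have hηp : η.IsPrime := ((hS η).mp hη).1.1
  obtain ⟨g, hgη, hg⟩ : ∃ g ∉ η, ∀ P ∈ S, P ≠ η → g ∈ P := by
    have hch : ∀ P ∈ S.erase η, ∃ g ∈ P, g ∉ η := by
      intro P hP
      obtain ⟨hne, hPS⟩ := Finset.mem_erase.mp hP
      by_contra hcon
      push Not at hcon
      have hle : P ≤ η := hcon
      exact hne (le_antisymm hle (((hS η).mp hη).2 ((hS P).mp hPS).1 hle))
    choose! g hgP hgη using hch
    refine ⟨∏ P ∈ S.erase η, g P, ?_, fun P hP hne => Ideal.mem_of_dvd _
      (Finset.dvd_prod_of_mem g (Finset.mem_erase.mpr ⟨hne, hP⟩))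
      (hgP P (Finset.mem_erase.mpr ⟨hne, hP⟩))⟩
    intro h
    obtain ⟨P, hP, hP'⟩ := (hηp.prod_mem_iff).mp h
    exact hgη P hP hP'
  have hg0 : g ≠ 0 := fun h => hgη (h ▸ zero_mem _)
  obtain ⟨f, hgf, hf0, hfree, -⟩ :=
    GrothLib.GenFree.exists_free_and_finitePresentation A M g hg0
  have hfη : f ∉ η := by
    intro h
    refine hf0 (hsInf f fun P hP => ?_)
    by_cases hPη : P = η
    · exact hPη ▸ h
    · exact Ideal.mem_of_dvd _ hgf (hg P hP hPη)
  let Bf := Localization.Away f
  let j : M →ₗ[B] Bf ⊗[B] M := TensorProduct.mk B Bf M 1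
  haveI : IsLocalizedModule (Submonoid.powers f) j :=
    (isLocalizedModule_iff_isBaseChange (Submonoid.powers f) Bf j).mpr
      (TensorProduct.isBaseChange B M Bf)
  have hjv : j v ≠ 0 := by
    intro h
    obtain ⟨⟨_, k, rfl⟩, hk⟩ := (IsLocalizedModule.eq_zero_iff (Submonoid.powers f) j).mp h
    exact hηv (f ^ k) (fun h' => hfη (hηp.mem_of_pow_mem k h')) hk
  let bas := Module.Free.chooseBasis Bf (Bf ⊗[B] M)
  obtain ⟨i, hi⟩ : ∃ i, bas.repr (j v) i ≠ 0 := by
    by_contra hcon
    push Not at hcon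
    exact hjv (bas.repr.map_eq_zero_iff.mp (Finsupp.ext hcon))
  obtain ⟨⟨c, ⟨_, k, rfl⟩⟩, hc⟩ := IsLocalization.surj (Submonoid.powers f) (bas.repr (j v) i)
  have hu : IsUnit (algebraMap B Bf (f ^ k)) :=
    IsLocalization.map_units Bf (⟨f ^ k, k, rfl⟩ : Submonoid.powers f)
  have hcf : f * c ≠ 0 := by
    intro h
    apply hi
    have h1 := congrArg (algebraMap B Bf) h
    rw [map_mul, map_zero, ← hc] at h1
    have hu1 : IsUnit (algebraMap B Bf f) :=
      IsLocalization.map_units Bf (⟨f, 1, pow_one f⟩ : Submonoid.powers f)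
    exact hu.mul_left_eq_zero.mp (hu1.mul_right_eq_zero.mp h1)
  refine ⟨f * c, hcf, fun K _ _ hK h0 => ?_⟩
  rw [map_mul, mul_ne_zero_iff] at hK
  let φ : Bf →+* K := IsLocalization.Away.lift f (g := algebraMap B K) (isUnit_iff_ne_zero.mpr hK.1)
  letI := φ.toAlgebra
  haveI : IsScalarTower B Bf K := IsScalarTower.of_algebraMap_eq fun b =>
    (IsLocalization.Away.lift_eq f (g := algebraMap B K) _ b).symm
  let L : M →ₗ[B] K := ((Algebra.linearMap Bf K).comp (bas.coord i)).restrictScalars B ∘ₗ j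
  have h1 : TensorProduct.lift
      ((LinearMap.lsmul K K).restrictScalars₁₂ B B |>.compl₂ L) ((1 : K) ⊗ₜ[B] v) = L v := by
    simp
  rw [h0, map_zero] at h1
  have h2 : φ (bas.repr (j v) i) = 0 := h1.symm
  have h3 := congrArg φ hc
  rw [map_mul, h2, zero_mul, IsLocalization.Away.lift_eq] at h3
  exact hK.2 h3.symm

end EtSlice6
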