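import Mathlib.RingTheory.Spectrum.Prime.Chevalley
import Mathlib.RingTheory.Spectrum.Prime.Topology
import Mathlib.RingTheory.Etale.Basic
import Mathlib.RingTheory.Smooth.Flat
import Mathlib.RingTheory.Flat.TorsionFree
import Mathlib.RingTheory.LocalRing.ResidueField.Ideal
import Mathlib.FieldTheory.IsSepClosed
import Mathlib.FieldTheory.IsAlgClosed.Basic
import Mathlib.Algebra.MvPolynomial.Funext
import Groth.Agent.Lib.RedSmooth.Basic

/-!
# Separable closed points on étale schemes over affine space over a field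
-/

set_option autoImplicit false
universe u

namespace EtSlice6

open MvPolynomial

instance infinite_separableClosure (κ : Type u) [Field κ] : Infinite (SeparableClosure κ) := by
  by_contra h
  rw [not_infinite_iff_finite] at h
  haveI : IsAlgClosed (SeparableClosure κ) := inferInstance
  exact not_finite (SeparableClosure κ)

/-- On an algebra étale over `κ[x₁,…,xₙ]`, a non-zero element does not vanish at some point whose
coordinates are roots of separable polynomials in one variable. -/
theorem exists_slice_point {κ : Type u} [Field κ] {n : ℕ} {B : Type u} [CommRing B]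
    [Algebra (MvPolynomial (Fin n) κ) B] [Algebra.Etale (MvPolynomial (Fin n) κ) B] {c : B}
    (hc : c ≠ 0) :
    ∃ (h : Fin n → Polynomial κ) (K : Type u) (_ : Field K) (e : B →+* K), e c ≠ 0 ∧
      ∀ i, e (algebraMap (MvPolynomial (Fin n) κ) B (Polynomial.aeval (X i) (h i))) = 0 ∧
        e (algebraMap (MvPolynomial (Fin n) κ) B
          (Polynomial.aeval (X i) (Polynomial.derivative (h i)))) ≠ 0 := by
  haveI : IsReduced B :=
    GrothLib.RedSmooth.isReduced_of_algebra_smooth (MvPolynomial (Fin n) κ) B
  have hnil : ¬ IsNilpotent c := fun h => hc h.eq_zero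
  obtain ⟨x₀, hx₀⟩ : ∃ x, x ∈ PrimeSpectrum.basicOpen c := by
    by_contra hcon
    push Not at hcon
    exact hnil (PrimeSpectrum.basicOpen_eq_bot_iff c |>.mp (eq_bot_iff.mpr fun x hx => hcon x hx))
  have hopen : IsOpenMap (PrimeSpectrum.comap (algebraMap (MvPolynomial (Fin n) κ) B)) :=
    PrimeSpectrum.isOpenMap_comap_of_hasGoingDown_of_finitePresentation
  obtain ⟨_, ⟨h₀, rfl⟩, hxh, hsub⟩ :=
    PrimeSpectrum.isTopologicalBasis_basic_opens.exists_subset_of_mem_open
      (Set.mem_image_of_mem (PrimeSpectrum.comap (algebraMap (MvPolynomial (Fin n) κ) B)) hx₀)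
      (hopen _ (PrimeSpectrum.basicOpen c).isOpen)
  have hh₀ : h₀ ≠ 0 := fun h => hxh (h ▸ Submodule.zero_mem _)
  obtain ⟨a, ha⟩ : ∃ a : Fin n → SeparableClosure κ, aeval a h₀ ≠ 0 := by
    by_contra hcon
    push Not at hcon
    apply hh₀
    apply map_injective _ (algebraMap κ (SeparableClosure κ)).injective
    rw [map_zero]
    refine MvPolynomial.funext fun a => ?_
    rw [map_zero, eval_map]
    exact hcon a
  let y : PrimeSpectrum (MvPolynomial (Fin n) κ) :=
    ⟨RingHom.ker (aeval (R := κ) a), RingHom.ker_isPrime _⟩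
  have hy : y ∈ (PrimeSpectrum.basicOpen h₀ : Set (PrimeSpectrum _)) := fun h => ha h
  obtain ⟨x, hx, hxy⟩ := hsub hy
  refine ⟨fun i => minpoly κ (a i), x.asIdeal.ResidueField, inferInstance,
    algebraMap B x.asIdeal.ResidueField, fun h => hx (Ideal.algebraMap_residueField_eq_zero.mp h),
    fun i => ?_⟩
  have hyx : ∀ z, algebraMap (MvPolynomial (Fin n) κ) B z ∈ x.asIdeal ↔ aeval a z = 0 := fun z => by
    show z ∈ (PrimeSpectrum.comap _ x).asIdeal ↔ _
    rw [hxy]
    exact RingHom.mem_ker
  have hev : ∀ q : Polynomial κ,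
      aeval a (Polynomial.aeval (X i : MvPolynomial (Fin n) κ) q) = Polynomial.aeval (a i) q := by
    intro q
    rw [← Polynomial.aeval_algHom_apply, aeval_X]
  constructor
  · rw [Ideal.algebraMap_residueField_eq_zero, hyx, hev, minpoly.aeval]
  · rw [ne_eq, Ideal.algebraMap_residueField_eq_zero, hyx, hev]
    exact (Algebra.IsSeparable.isSeparable κ (a i)).aeval_derivative_ne_zero (minpoly.aeval κ (a i))

end EtSlice6
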