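import Mathlib.RingTheory.TensorProduct.MvPolynomial
import Mathlib.RingTheory.Localization.Integral
import Mathlib.RingTheory.LocalRing.ResidueField.Ideal
import Groth.Agent.Lib.EtSlice6.Field
import Groth.Agent.Lib.EtSlice6.Coord

/-!
# Non-vanishing of a fibre element at a slice point
-/

set_option autoImplicit false
universe u

open MvPolynomial TensorProduct

namespace EtSlice6

attribute [local instance] Algebra.TensorProduct.rightAlgebra MvPolynomial.algebraMvPolynomial

theorem exists_point {R : Type u} [CommRing R] [IsNoetherianRing R] {n : ℕ} {B : Type u} [CommRing B]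
    [Algebra R B] [Algebra (MvPolynomial (Fin n) R) B] [IsScalarTower R (MvPolynomial (Fin n) R) B]
    [Algebra.Etale (MvPolynomial (Fin n) R) B] (p : Ideal R) [p.IsPrime]
    {A : Type u} [CommRing A] [Algebra B A] [Algebra.FiniteType B A] {M : Type u} [AddCommGroup M]
    [Module A M] [Module B M] [Module R M] [IsScalarTower B A M] [IsScalarTower R B M]
    [Module.Finite A M] [Module.Flat B M] (b : p.ResidueField ⊗[R] M) (hb : b ≠ 0) :
    ∃ (g : Fin n → Polynomial R) (K : Type u) (_ : Field K) (eκ : p.ResidueField →+* K)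
      (eB : B →+* K), eκ.comp (algebraMap R p.ResidueField) = eB.comp (algebraMap R B) ∧
      (∀ i, eB (algebraMap (MvPolynomial (Fin n) R) B (Polynomial.aeval (X i) (g i))) = 0 ∧
        eB (algebraMap (MvPolynomial (Fin n) R) B
          (Polynomial.aeval (X i) (Polynomial.derivative (g i)))) ≠ 0) ∧
      ∃ (Ψ : letI := eB.toAlgebra; (p.ResidueField ⊗[R] M) →+ (K ⊗[B] M)),
        (letI := eB.toAlgebra; ∀ c m, Ψ (c ⊗ₜ m) = eκ c ⊗ₜ[B] m) ∧ Ψ b ≠ 0 := by
  let κ := p.ResidueField
  let Bκ := κ ⊗[R] B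
  let P := MvPolynomial (Fin n) R
  let Pκ := MvPolynomial (Fin n) κ
  haveI : Algebra.FiniteType R B := Algebra.FiniteType.trans (inferInstance : Algebra.FiniteType R P)
    (inferInstance : Algebra.FiniteType P B)
  haveI : IsNoetherianRing Bκ := Algebra.FiniteType.isNoetherianRing κ Bκ
  let ρ : Pκ →ₐ[κ] Bκ := aeval fun i => (1 : κ) ⊗ₜ[R] algebraMap P B (X i)
  letI : Algebra Pκ Bκ := ρ.toRingHom.toAlgebra
  haveI : IsScalarTower κ Pκ Bκ := IsScalarTower.of_algebraMap_eq fun c => (ρ.commutes c).symm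
  letI : Algebra P Bκ := ((algebraMap B Bκ).comp (algebraMap P B)).toAlgebra
  haveI : IsScalarTower P B Bκ := IsScalarTower.of_algebraMap_eq fun _ => rfl
  have hPP : ∀ q : P, ρ (MvPolynomial.map (algebraMap R κ) q) = algebraMap B Bκ (algebraMap P B q) := by
    intro q
    refine RingHom.congr_fun (f := ρ.toRingHom.comp (MvPolynomial.map (algebraMap R κ)))
      (g := (algebraMap B Bκ).comp (algebraMap P B)) (MvPolynomial.ringHom_ext (fun r => ?_) fun i => ?_) q
    · show ρ (MvPolynomial.map (algebraMap R κ) (C r)) = algebraMap B Bκ (algebraMap P B (C r))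
      rw [map_C, show (C (algebraMap R κ r) : Pκ) = algebraMap κ Pκ (algebraMap R κ r) from rfl,
        ρ.commutes, show (C r : P) = algebraMap R P r from rfl,
        ← IsScalarTower.algebraMap_apply R P B]
      show (algebraMap R κ r) ⊗ₜ[R] (1 : B) = (1 : κ) ⊗ₜ[R] algebraMap R B r
      rw [Algebra.algebraMap_eq_smul_one, Algebra.algebraMap_eq_smul_one, smul_tmul]
    · show ρ (MvPolynomial.map (algebraMap R κ) (X i)) = _
      rw [map_X]
      exact aeval_X _ _
  haveI : IsScalarTower P Pκ Bκ := IsScalarTower.of_algebraMap_eq fun q => (hPP q).symm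
  haveI : IsScalarTower R P Bκ := IsScalarTower.of_algebraMap_eq fun r => by
    show algebraMap R Bκ r = algebraMap B Bκ (algebraMap P B (algebraMap R P r))
    rw [← IsScalarTower.algebraMap_apply R P B, ← IsScalarTower.algebraMap_apply R B Bκ]
  haveI : IsScalarTower R Pκ Bκ := IsScalarTower.of_algebraMap_eq fun r => by
    rw [IsScalarTower.algebraMap_apply R κ Bκ, IsScalarTower.algebraMap_apply R κ Pκ,
      ← IsScalarTower.algebraMap_apply κ Pκ Bκ]
  haveI : Algebra.IsPushout P B Pκ Bκ := (Algebra.IsPushout.comp_iff R P κ Pκ).mp inferInstance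
  haveI : Algebra.IsPushout P Pκ B Bκ := Algebra.IsPushout.symm inferInstance
  haveI : Algebra.Etale Pκ Bκ := Algebra.Etale.of_equiv (Algebra.IsPushout.equiv P Pκ B Bκ)
  haveI : IsReduced Bκ := GrothLib.RedSmooth.isReduced_of_algebra_smooth Pκ Bκ
  let Aκ := Bκ ⊗[B] A
  let e₁ : Aκ ⊗[A] M ≃ₗ[Bκ] Bκ ⊗[B] M := Algebra.IsPushout.cancelBaseChange B Bκ A Aκ M
  haveI : Module.Flat Bκ (Aκ ⊗[A] M) := Module.Flat.of_linearEquiv e₁
  let e₂ : Bκ ⊗[B] M ≃ₗ[κ] κ ⊗[R] M := Algebra.IsPushout.cancelBaseChange R κ B Bκ M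
  obtain ⟨c, hc, hcK⟩ := exists_coord (B := Bκ) (A := Aκ) (M := Aκ ⊗[A] M)
    (v := e₁.symm (e₂.symm b)) (by simpa using hb)
  obtain ⟨h, K, _, e, hec, he⟩ := exists_slice_point (κ := κ) (n := n) (B := Bκ) hc
  let D := R ⧸ p
  have hlift : ∀ q : Polynomial κ, ∃ (g : Polynomial R) (u : κ), u ≠ 0 ∧
      g.map (algebraMap R κ) = Polynomial.C u * q := by
    intro q
    obtain ⟨d, hd, hdq⟩ := IsLocalization.integerNormalization_spec (nonZeroDivisors D) q
    obtain ⟨g, hg⟩ := Polynomial.map_surjective (Ideal.Quotient.mk p) Ideal.Quotient.mk_surjective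
      (IsLocalization.integerNormalization (nonZeroDivisors D) q)
    refine ⟨g, algebraMap D κ d, ?_, ?_⟩
    · exact (map_ne_zero_iff _ (IsFractionRing.injective D κ)).mpr (nonZeroDivisors.ne_zero hd)
    · rw [← Polynomial.smul_eq_C_mul, algebraMap_smul, ← hdq, ← hg, Polynomial.map_map]
      rfl
  choose g u hu hgu using fun i => hlift (h i)
  let eκ : κ →+* K := e.comp (algebraMap κ Bκ)
  let eB : B →+* K := e.comp (algebraMap B Bκ)
  have hev : ∀ (i : Fin n) (q : Polynomial R),
      eB (algebraMap P B (Polynomial.aeval (X i) q)) =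
        e (algebraMap Pκ Bκ (Polynomial.aeval (X i) (q.map (algebraMap R κ)))) := by
    intro i q
    show e (algebraMap B Bκ (algebraMap P B _)) = e (ρ _)
    rw [← hPP]
    congr 2
    rw [Polynomial.aeval_map_algebraMap]
    have := Polynomial.hom_eval₂ q (algebraMap R P) (MvPolynomial.map (σ := Fin n) (algebraMap R κ)) (X i)
    rw [map_X] at this
    rw [Polynomial.aeval_def, Polynomial.aeval_def, this]
    congr 1
    refine RingHom.ext fun r => ?_
    show MvPolynomial.map (algebraMap R κ) (C r) = _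
    rw [map_C, IsScalarTower.algebraMap_apply R κ (MvPolynomial (Fin n) κ)]
    rfl
  refine ⟨g, K, inferInstance, eκ, eB, ?_, fun i => ⟨?_, ?_⟩, ?_⟩
  · show (e.comp (algebraMap κ Bκ)).comp (algebraMap R κ) = (e.comp (algebraMap B Bκ)).comp (algebraMap R B)
    rw [RingHom.comp_assoc, RingHom.comp_assoc, ← IsScalarTower.algebraMap_eq R κ Bκ,
      ← IsScalarTower.algebraMap_eq R B Bκ]
  · rw [hev, hgu, map_mul, map_mul, map_mul, (he i).1, mul_zero]
  · rw [hev, ← Polynomial.derivative_map, hgu, Polynomial.derivative_C_mul, map_mul, map_mul,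
      map_mul, mul_ne_zero_iff]
    refine ⟨?_, (he i).2⟩
    rw [Polynomial.aeval_C]
    exact ((IsUnit.mk0 _ (hu i)).map _ |>.map _ |>.map e).ne_zero
  · letI := e.toAlgebra
    letI := eB.toAlgebra
    haveI : IsScalarTower B Bκ K := IsScalarTower.of_algebraMap_eq fun _ => rfl
    let e₃ : K ⊗[Bκ] (Bκ ⊗[B] M) ≃ₗ[K] K ⊗[B] M :=
      TensorProduct.AlgebraTensorModule.cancelBaseChange B Bκ K K M
    refine ⟨(e₃.toLinearMap.toAddMonoidHom.comp
      (TensorProduct.mk Bκ K (Bκ ⊗[B] M) 1).toAddMonoidHom).comp e₂.symm.toLinearMap.toAddMonoidHom,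
      fun c m => ?_, fun h0 => ?_⟩
    · show e₃ ((1 : K) ⊗ₜ[Bκ] e₂.symm (c ⊗ₜ m)) = _
      rw [Algebra.IsPushout.cancelBaseChange_symm_tmul]
      simp only [e₃, TensorProduct.AlgebraTensorModule.cancelBaseChange_tmul]
      rw [Algebra.smul_def, mul_one]
      rfl
    · change e₃ ((1 : K) ⊗ₜ[Bκ] e₂.symm b) = 0 at h0
      rw [LinearEquiv.map_eq_zero_iff] at h0
      refine hcK K hec ?_
      have h1 := congrArg (LinearMap.baseChange K e₁.symm.toLinearMap) h0
      rw [LinearMap.baseChange_tmul, map_zero] at h1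
      exact h1

end EtSlice6
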