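import Mathlib.RingTheory.Localization.Away.Basic
import Mathlib.RingTheory.TensorProduct.Maps
import Mathlib.AlgebraicGeometry.Morphisms.ClosedImmersion
import Mathlib.AlgebraicGeometry.Morphisms.Immersion

/-!
# Ring maps which are surjections onto a principal localization
-/

set_option autoImplicit false
universe u v

open CategoryTheory AlgebraicGeometry TensorProduct

namespace EtSlice6

/-- `φ` is the composite of a principal localization and a surjection. -/
def IsLocSurj {B Q : Type*} [CommRing B] [CommRing Q] (φ : B →+* Q) : Prop :=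
  ∃ G : B, IsUnit (φ G) ∧ ∀ q : Q, ∃ (k : ℕ) (b : B), q * φ G ^ k = φ b

lemma IsLocSurj.of_surjective_of_away {B C Q : Type*} [CommRing B] [CommRing C] [CommRing Q]
    [Algebra C Q] (π : B →+* C) (hπ : Function.Surjective π) (G : B)
    [IsLocalization.Away (π G) Q] : IsLocSurj ((algebraMap C Q).comp π) := by
  refine ⟨G, IsLocalization.Away.algebraMap_isUnit (π G), fun q => ?_⟩
  obtain ⟨⟨c, ⟨_, k, rfl⟩⟩, hc⟩ := IsLocalization.surj (Submonoid.powers (π G)) q
  obtain ⟨b, rfl⟩ := hπ c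
  exact ⟨k, b, by simpa [map_pow] using! hc⟩

/-- Base change of `IsLocSurj` in the right factor. -/
lemma IsLocSurj.tensorMap {R S B Q : Type*} [CommRing R] [CommRing S] [CommRing B] [CommRing Q]
    [Algebra R S] [Algebra R B] [Algebra R Q] (ψ : B →ₐ[R] Q) (h : IsLocSurj ψ.toRingHom) :
    IsLocSurj (Algebra.TensorProduct.map (AlgHom.id S S) ψ).toRingHom := by
  obtain ⟨G, hG, h⟩ := h
  set F := Algebra.TensorProduct.map (AlgHom.id S S) ψ
  have hFG : F (1 ⊗ₜ G) = 1 ⊗ₜ ψ G := by simp [F]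
  refine ⟨1 ⊗ₜ G, ?_, fun z => ?_⟩
  · show IsUnit (F (1 ⊗ₜ G))
    rw [hFG]
    exact hG.map (Algebra.TensorProduct.includeRight (R := R) (A := S) (B := Q))
  show ∃ (k : ℕ) (b : S ⊗[R] B), z * F (1 ⊗ₜ G) ^ k = F b
  induction z using TensorProduct.induction_on with
  | zero => exact ⟨0, 0, by simp⟩
  | tmul s q =>
    obtain ⟨k, b, hb⟩ := h q
    refine ⟨k, s ⊗ₜ b, ?_⟩
    rw [hFG, Algebra.TensorProduct.tmul_pow, one_pow, Algebra.TensorProduct.tmul_mul_tmul, mul_one]
    simpa [F] using! congrArg (fun t => s ⊗ₜ[R] t) hb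
  | add z₁ z₂ h₁ h₂ =>
    obtain ⟨k₁, b₁, e₁⟩ := h₁
    obtain ⟨k₂, b₂, e₂⟩ := h₂
    refine ⟨k₁ + k₂, b₁ * (1 ⊗ₜ G) ^ k₂ + b₂ * (1 ⊗ₜ G) ^ k₁, ?_⟩
    rw [map_add, map_mul, map_mul, map_pow, map_pow, ← e₁, ← e₂]
    ring

/-- A composite with bijective ring maps on the source. -/
lemma IsLocSurj.comp_bijective {A B Q : Type*} [CommRing A] [CommRing B] [CommRing Q]
    (e : A ≃+* B) (φ : B →+* Q) (h : IsLocSurj φ) : IsLocSurj (φ.comp e.toRingHom) := by
  obtain ⟨G, hG, h⟩ := h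
  refine ⟨e.symm G, by simpa using! hG, fun q => ?_⟩
  obtain ⟨k, b, hb⟩ := h q
  exact ⟨k, e.symm b, by simpa using! hb⟩

lemma IsLocSurj.isImmersion {B Q : CommRingCat.{u}} (φ : B ⟶ Q) (h : IsLocSurj φ.hom) :
    IsImmersion (Spec.map φ) := by
  obtain ⟨G, hG, h⟩ := h
  let L := Localization.Away G
  let l : L →+* Q := IsLocalization.Away.lift G (g := φ.hom) hG
  have hl : Function.Surjective l := by
    intro q
    obtain ⟨k, b, hb⟩ := h q
    refine ⟨IsLocalization.mk' L b (⟨G ^ k, k, rfl⟩ : Submonoid.powers G), ?_⟩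
    refine (hG.pow k).mul_left_inj.mp ?_
    have hl' : ∀ c, l (algebraMap B L c) = φ.hom c :=
      fun c => IsLocalization.Away.lift_eq G (g := φ.hom) hG c
    rw [hb, ← hl' b, ← IsLocalization.mk'_spec L b (⟨G ^ k, k, rfl⟩ : Submonoid.powers G), map_mul,
      hl', map_pow]
  have e : φ = CommRingCat.ofHom (algebraMap B L) ≫ CommRingCat.ofHom l := by
    ext b
    exact (IsLocalization.Away.lift_eq G (g := φ.hom) hG b).symm
  rw [e, Spec.map_comp]
  haveI : IsClosedImmersion (Spec.map (CommRingCat.ofHom l)) :=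
    IsClosedImmersion.spec_of_surjective _ hl
  haveI : IsOpenImmersion (Spec.map (CommRingCat.ofHom (algebraMap B L))) :=
    inferInstance
  infer_instance

end EtSlice6
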