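import Mathlib.RingTheory.Etale.Basic
import Mathlib.Algebra.Polynomial.Taylor
import Mathlib.RingTheory.Localization.Away.AdjoinRoot
import Mathlib.RingTheory.TensorProduct.Quotient
import Groth.Agent.Lib.EtSlice6.LocSurj

/-!
# The étale scheme cut out by polynomials in the separate variables of affine space
-/

set_option autoImplicit false
universe u

open MvPolynomial

namespace EtSlice6

variable {R : Type u} [CommRing R] {n : ℕ} (g : Fin n → Polynomial R)

/-- The ideal generated by the `gᵢ(xᵢ)`. -/
noncomputable def sliceIdeal : Ideal (MvPolynomial (Fin n) R) :=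
  Ideal.span (Set.range fun i => Polynomial.aeval (X i) (g i))

/-- The product of the `gᵢ'(xᵢ)`. -/
noncomputable def sliceDer : MvPolynomial (Fin n) R :=
  ∏ i, Polynomial.aeval (X i) (Polynomial.derivative (g i))

/-- The zero locus of the `gᵢ(xᵢ)` where all `gᵢ'(xᵢ)` are invertible. -/
abbrev Slice : Type u :=
  Localization.Away (Ideal.Quotient.mk (sliceIdeal g) (sliceDer g))

lemma algebraMap_slice_eq :
    algebraMap (MvPolynomial (Fin n) R) (Slice g) =
      (algebraMap (MvPolynomial (Fin n) R ⧸ sliceIdeal g) (Slice g)).comp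
        (Ideal.Quotient.mk (sliceIdeal g)) :=
  IsScalarTower.algebraMap_eq _ (MvPolynomial (Fin n) R ⧸ sliceIdeal g) _

lemma isLocSurj_slice : IsLocSurj (algebraMap (MvPolynomial (Fin n) R) (Slice g)) := by
  rw [algebraMap_slice_eq]
  exact IsLocSurj.of_surjective_of_away _ Ideal.Quotient.mk_surjective (sliceDer g)

/-- A point at which all `gᵢ` vanish and all `gᵢ'` are units gives a map out of the slice. -/
noncomputable def sliceLift {S : Type*} [CommRing S] (φ : MvPolynomial (Fin n) R →+* S)
    (h₀ : ∀ i, φ (Polynomial.aeval (X i) (g i)) = 0)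
    (h₁ : ∀ i, IsUnit (φ (Polynomial.aeval (X i) (Polynomial.derivative (g i))))) :
    Slice g →+* S :=
  IsLocalization.Away.lift (Ideal.Quotient.mk (sliceIdeal g) (sliceDer g))
    (g := Ideal.Quotient.lift (sliceIdeal g) φ fun a ha => by
      refine (Ideal.span_le (I := RingHom.ker φ)).mpr ?_ ha
      rintro _ ⟨i, rfl⟩
      exact h₀ i)
    (by
      rw [Ideal.Quotient.lift_mk, sliceDer, map_prod]
      exact IsUnit.prod_iff.mpr fun i _ => h₁ i)

lemma sliceLift_algebraMap {S : Type*} [CommRing S] (φ : MvPolynomial (Fin n) R →+* S)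
    (h₀ : ∀ i, φ (Polynomial.aeval (X i) (g i)) = 0)
    (h₁ : ∀ i, IsUnit (φ (Polynomial.aeval (X i) (Polynomial.derivative (g i))))) (p) :
    sliceLift g φ h₀ h₁ (algebraMap _ (Slice g) p) = φ p := by
  rw [algebraMap_slice_eq, sliceLift, RingHom.comp_apply, IsLocalization.Away.lift_eq,
    Ideal.Quotient.lift_mk]

lemma slice_hom_ext {S : Type*} [CommRing S] {f₁ f₂ : Slice g →+* S}
    (h : f₁.comp (algebraMap (MvPolynomial (Fin n) R) (Slice g)) =
      f₂.comp (algebraMap (MvPolynomial (Fin n) R) (Slice g))) : f₁ = f₂ := by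
  apply IsLocalization.ringHom_ext (Submonoid.powers (Ideal.Quotient.mk (sliceIdeal g) (sliceDer g)))
  apply Ideal.Quotient.ringHom_ext
  rw [RingHom.comp_assoc, RingHom.comp_assoc, ← algebraMap_slice_eq]
  exact h

instance finitePresentation_slice : Algebra.FinitePresentation R (Slice g) := by
  haveI : Algebra.FinitePresentation R (MvPolynomial (Fin n) R ⧸ sliceIdeal g) :=
    Algebra.FinitePresentation.quotient (Submodule.fg_span (Set.finite_range _))
  haveI : Algebra.FinitePresentation (MvPolynomial (Fin n) R ⧸ sliceIdeal g) (Slice g) :=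
    IsLocalization.Away.finitePresentation (Ideal.Quotient.mk (sliceIdeal g) (sliceDer g))
  exact Algebra.FinitePresentation.trans R (MvPolynomial (Fin n) R ⧸ sliceIdeal g) _

lemma isUnit_of_sq_zero {A : Type*} [CommRing A] {J : Ideal A} (hJ : J ^ 2 = ⊥) {a : A}
    (h : IsUnit (Ideal.Quotient.mk J a)) : IsUnit a := by
  obtain ⟨⟨u, v, huv, hvu⟩, hu⟩ := h
  obtain ⟨v', rfl⟩ := Ideal.Quotient.mk_surjective v
  have h1 : a * v' - 1 ∈ J := by
    rw [← Ideal.Quotient.eq_zero_iff_mem, map_sub, map_mul, map_one, sub_eq_zero]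
    rw [← hu]
    exact huv
  have h2 : (a * v' - 1) * (a * v' - 1) = 0 := by
    rw [← Ideal.mem_bot, ← hJ, pow_two]
    exact Ideal.mul_mem_mul h1 h1
  exact IsUnit.of_mul_eq_one (v' * (2 - a * v')) (by linear_combination -h2)

instance formallyEtale_slice : Algebra.FormallyEtale R (Slice g) := by
  rw [Algebra.FormallyEtale.iff_comp_bijective]
  intro A _ _ J hJ
  have hmul : ∀ x ∈ J, ∀ y ∈ J, x * y = 0 := fun x hx y hy => by
    rw [← Ideal.mem_bot, ← hJ, pow_two]
    exact Ideal.mul_mem_mul hx hy
  let x : Fin n → Slice g := fun i => algebraMap (MvPolynomial (Fin n) R) (Slice g) (X i)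
  have hx0 : ∀ i, Polynomial.aeval (x i) (g i) = 0 := fun i => by
    show Polynomial.aeval (algebraMap _ _ (X i)) (g i) = 0
    rw [Polynomial.aeval_algebraMap_apply, algebraMap_slice_eq, RingHom.comp_apply]
    have hmem : Polynomial.aeval (X i) (g i) ∈ sliceIdeal g := Ideal.subset_span ⟨i, rfl⟩
    exact (congrArg _ (Ideal.Quotient.eq_zero_iff_mem.mpr hmem)).trans (map_zero _)
  have hx1 : ∀ i, IsUnit (Polynomial.aeval (x i) (Polynomial.derivative (g i))) := fun i => by
    show IsUnit (Polynomial.aeval (algebraMap _ _ (X i)) _)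
    rw [Polynomial.aeval_algebraMap_apply, algebraMap_slice_eq, RingHom.comp_apply]
    refine isUnit_of_dvd_unit (map_dvd _ (map_dvd _ (Finset.dvd_prod_of_mem
      (fun i => Polynomial.aeval (X i) (Polynomial.derivative (g i))) (Finset.mem_univ i)))) ?_
    exact IsLocalization.Away.algebraMap_isUnit (Ideal.Quotient.mk (sliceIdeal g) (sliceDer g))
  constructor
  · intro f₁ f₂ h
    have hd : ∀ i, f₁ (x i) - f₂ (x i) ∈ J := fun i => by
      rw [← Ideal.Quotient.eq]
      exact congr($h (x i))
    apply AlgHom.coe_ringHom_injective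
    apply slice_hom_ext
    refine MvPolynomial.ringHom_ext (fun r => ?_) fun i => ?_
    · simp only [RingHom.comp_apply]
      rw [← algebraMap_eq, ← IsScalarTower.algebraMap_apply R (MvPolynomial (Fin n) R) (Slice g)]
      exact (f₁.commutes r).trans (f₂.commutes r).symm
    · show f₁ (x i) = f₂ (x i)
      have h1 := Polynomial.aeval_add_of_sq_eq_zero (g i) (f₂ (x i)) (f₁ (x i) - f₂ (x i))
        (by rw [pow_two]; exact hmul _ (hd i) _ (hd i))
      rw [add_sub_cancel, Polynomial.aeval_algHom_apply f₁ (x i),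
        Polynomial.aeval_algHom_apply f₂ (x i) (g i),
        Polynomial.aeval_algHom_apply f₂ (x i) (Polynomial.derivative (g i)), hx0,
        map_zero, map_zero, zero_add] at h1
      exact sub_eq_zero.mp (((hx1 i).map f₂).mul_right_eq_zero.mp h1.symm)
  · intro φ
    have ha : ∀ i, ∃ a : A, Ideal.Quotient.mk J a = φ (x i) :=
      fun i => Ideal.Quotient.mk_surjective _
    choose a ha using ha
    have hmkr : ∀ (i : Fin n) (q : Polynomial R),
        Ideal.Quotient.mk J (Polynomial.aeval (a i) q) = φ (Polynomial.aeval (x i) q) := by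
      intro i q
      rw [← Polynomial.aeval_algHom_apply φ (x i) q, ← ha i]
      exact (Polynomial.aeval_algHom_apply (Ideal.Quotient.mkₐ R J) (a i) q).symm
    have hu : ∀ i, IsUnit (Polynomial.aeval (a i) (Polynomial.derivative (g i))) := fun i => by
      apply isUnit_of_sq_zero hJ
      rw [hmkr]
      exact (hx1 i).map φ
    have hgJ : ∀ i, Polynomial.aeval (a i) (g i) ∈ J := fun i => by
      rw [← Ideal.Quotient.eq_zero_iff_mem, hmkr, hx0, map_zero]
    let d : Fin n → A := fun i => -((hu i).unit⁻¹ : Aˣ) * Polynomial.aeval (a i) (g i)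
    have hdJ : ∀ i, d i ∈ J := fun i => J.mul_mem_left _ (hgJ i)
    let a' : Fin n → A := fun i => a i + d i
    have hd2 : ∀ i, d i ^ 2 = 0 := fun i => by rw [pow_two]; exact hmul _ (hdJ i) _ (hdJ i)
    have h0 : ∀ i, aeval a' (Polynomial.aeval (X i : MvPolynomial (Fin n) R) (g i)) = 0 := by
      intro i
      rw [← Polynomial.aeval_algHom_apply, aeval_X]
      rw [Polynomial.aeval_add_of_sq_eq_zero _ _ _ (hd2 i)]
      show _ + _ * (-((hu i).unit⁻¹ : Aˣ) * Polynomial.aeval (a i) (g i)) = 0
      rw [neg_mul, mul_neg, ← mul_assoc, IsUnit.mul_val_inv, one_mul, add_neg_cancel]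
    have h1 : ∀ i, IsUnit (aeval a'
        (Polynomial.aeval (X i : MvPolynomial (Fin n) R) (Polynomial.derivative (g i)))) := by
      intro i
      apply isUnit_of_sq_zero hJ
      rw [← Polynomial.aeval_algHom_apply, aeval_X,
        Polynomial.aeval_add_of_sq_eq_zero _ _ _ (hd2 i), map_add,
        Ideal.Quotient.eq_zero_iff_mem.mpr (J.mul_mem_left _ (hdJ i)), add_zero]
      exact (hu i).map _
    let L : Slice g →+* A := sliceLift g (aeval (R := R) a').toRingHom h0 h1
    have hL : ∀ p, L (algebraMap _ _ p) = aeval a' p := fun p => sliceLift_algebraMap g _ h0 h1 p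
    let L' : Slice g →ₐ[R] A :=
      { L with
        commutes' := fun r => by
          show L (algebraMap R _ r) = _
          rw [IsScalarTower.algebraMap_apply R (MvPolynomial (Fin n) R) (Slice g), hL,
            AlgHom.commutes] }
    refine ⟨L', AlgHom.coe_ringHom_injective (slice_hom_ext g ?_)⟩
    refine MvPolynomial.ringHom_ext (fun r => ?_) fun i => ?_
    · simp only [RingHom.comp_apply]
      rw [← algebraMap_eq, ← IsScalarTower.algebraMap_apply R (MvPolynomial (Fin n) R) (Slice g)]
      exact ((Ideal.Quotient.mkₐ R J).comp L').commutes r |>.trans (φ.commutes r).symm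
    · show Ideal.Quotient.mk J (L (x i)) = φ (x i)
      rw [hL, aeval_X, ← ha i, map_add, Ideal.Quotient.eq_zero_iff_mem.mpr (hdJ i), add_zero]

instance etale_slice : Algebra.Etale R (Slice g) := ⟨inferInstance, inferInstance⟩

end EtSlice6
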