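import Mathlib.RingTheory.Flat.Stability
import Mathlib.RingTheory.Etale.Basic
import Mathlib.Algebra.Module.Torsion.Basic
import Mathlib.LinearAlgebra.TensorProduct.RightExactness
import Groth.Agent.Lib.EtSlice6.Point
import Groth.Agent.Lib.EtSlice6.Slice

/-!
# Slices detect elements of flat modules over algebras étale over affine space, Noetherian base
-/

set_option autoImplicit false
universe u

open MvPolynomial TensorProduct

namespace EtSlice6

attribute [local instance] Algebra.TensorProduct.rightAlgebra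

variable {R : Type u} [CommRing R] {n : ℕ} {B : Type u} [CommRing B] [Algebra R B]
  [Algebra (MvPolynomial (Fin n) R) B] [IsScalarTower R (MvPolynomial (Fin n) R) B]
  [Algebra.Etale (MvPolynomial (Fin n) R) B]

theorem etale_detector (g : Fin n → Polynomial R) :
    Algebra.Etale R (B ⊗[MvPolynomial (Fin n) R] Slice g) := by
  let P := MvPolynomial (Fin n) R
  let Q := B ⊗[P] Slice g
  haveI : Algebra.Etale (Slice g) Q :=
    Algebra.Etale.of_equiv (Algebra.IsPushout.equiv P (Slice g) B Q)
  haveI : IsScalarTower R (Slice g) Q := IsScalarTower.of_algebraMap_eq fun r => by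
    show (algebraMap R B r) ⊗ₜ[P] (1 : Slice g) = (1 : B) ⊗ₜ[P] algebraMap R (Slice g) r
    rw [IsScalarTower.algebraMap_apply R P B, IsScalarTower.algebraMap_apply R P (Slice g),
      Algebra.algebraMap_eq_smul_one, Algebra.algebraMap_eq_smul_one (R := P) (A := Slice g),
      smul_tmul]
  exact Algebra.Etale.comp R (Slice g) Q

/-- A non-zero element of a module killed by a prime, not by anything outside it, has a non-zero
image under some functional to the residue field. -/
theorem exists_functional [IsNoetherianRing R] (p : Ideal R) [p.IsPrime] {V M : Type u}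
    [AddCommGroup V] [Module R V] [Module.Finite R V] [AddCommGroup M] [Module R M]
    [Module.Flat R M] (hV : ∀ a ∈ p, ∀ v : V, a • v = 0) (τ : V ⊗[R] M)
    (hτ : ∀ s ∉ p, s • τ ≠ 0) :
    ∃ lam : V →ₗ[R] p.ResidueField, lam.rTensor M τ ≠ 0 := by
  classical
  have htor : Module.IsTorsionBySet R V p := fun v a => hV a.1 a.2 v
  letI := htor.module
  haveI : IsScalarTower R (R ⧸ p) V := htor.isScalarTower
  haveI : Module.Finite (R ⧸ p) V := Module.Finite.of_restrictScalars_finite R _ _
  let D := R ⧸ p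
  let κ := p.ResidueField
  let ψ : V →ₗ[D] κ ⊗[D] V := TensorProduct.mk D κ V 1
  haveI : IsLocalizedModule (nonZeroDivisors D) ψ :=
    (isLocalizedModule_iff_isBaseChange (nonZeroDivisors D) κ ψ).mpr
      (TensorProduct.isBaseChange D V κ)
  let bas := Module.Free.chooseBasis κ (κ ⊗[D] V)
  let lam : Module.Free.ChooseBasisIndex κ (κ ⊗[D] V) → (V →ₗ[R] κ) :=
    fun i => (((bas.coord i).restrictScalars D) ∘ₗ ψ).restrictScalars R
  by_contra hcon
  push Not at hcon
  let L : V →ₗ[R] (Module.Free.ChooseBasisIndex κ (κ ⊗[D] V) → κ) := LinearMap.pi lam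
  have hK : ∀ v ∈ LinearMap.ker L, ∃ s ∉ p, s • v = 0 := by
    intro v hv
    have h0 : ψ v = 0 := bas.repr.map_eq_zero_iff.mp (Finsupp.ext fun i => congrFun hv i)
    obtain ⟨⟨d, hd⟩, hdv⟩ := (IsLocalizedModule.eq_zero_iff (nonZeroDivisors D) ψ).mp h0
    obtain ⟨s, rfl⟩ := Ideal.Quotient.mk_surjective d
    refine ⟨s, fun h => nonZeroDivisors.ne_zero hd (Ideal.Quotient.eq_zero_iff_mem.mpr h), ?_⟩
    rw [← algebraMap_smul D s v]
    exact hdv
  choose! s hs hsv using hK
  obtain ⟨T, hT⟩ := IsNoetherian.noetherian (LinearMap.ker L)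
  let s₀ := ∏ v ∈ T, s v
  have hmem : ∀ v ∈ T, v ∈ LinearMap.ker L := fun v hv => hT ▸ Submodule.subset_span hv
  have hs₀ : s₀ ∉ p := fun h => by
    obtain ⟨v, hv, hv'⟩ := (‹p.IsPrime›.prod_mem_iff).mp h
    exact hs v (hmem v hv) hv'
  have hkill : s₀ • (LinearMap.ker L).subtype = 0 := by
    refine LinearMap.ext fun ⟨v, hv⟩ => ?_
    show s₀ • v = 0
    rw [← hT] at hv
    induction hv using Submodule.span_induction with
    | mem v hv =>
      obtain ⟨c, hc⟩ : s v ∣ s₀ := Finset.dvd_prod_of_mem s (Finset.mem_coe.mp hv)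
      rw [hc, mul_comm, mul_smul, hsv v (hmem v (Finset.mem_coe.mp hv)), smul_zero]
    | zero => exact smul_zero _
    | add v w _ _ hv hw => rw [smul_add, hv, hw, add_zero]
    | smul c v _ hv => rw [smul_comm, hv, smul_zero]
  have hL : L.rTensor M τ = 0 := by
    have hsum : L = ∑ i, (LinearMap.single R (fun _ => κ) i).comp (lam i) := by
      refine LinearMap.ext fun v => funext fun i => ?_
      simp [L, LinearMap.sum_apply, Finset.sum_apply, Pi.single_apply]
    rw [hsum, ← LinearMap.coe_rTensorHom, map_sum, LinearMap.sum_apply]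
    refine Finset.sum_eq_zero fun i _ => ?_
    rw [LinearMap.coe_rTensorHom, LinearMap.rTensor_comp, LinearMap.comp_apply, hcon, map_zero]
  obtain ⟨σ, rfl⟩ := (Module.Flat.rTensor_exact M (LinearMap.exact_subtype_ker_map L) τ).mp hL
  apply hτ s₀ hs₀
  rw [← LinearMap.smul_apply, ← LinearMap.rTensor_smul, hkill, LinearMap.rTensor_zero,
    LinearMap.zero_apply]

theorem exists_detect [IsNoetherianRing R] {A : Type u} [CommRing A] [Algebra B A]
    [Algebra.FiniteType B A] {M : Type u} [AddCommGroup M] [Module A M] [Module B M] [Module R M]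
    [IsScalarTower B A M] [IsScalarTower R B M] [Module.Finite A M] [Module.Flat B M] {t : M}
    (ht : t ≠ 0) :
    ∃ g : Fin n → Polynomial R, (1 : B ⊗[MvPolynomial (Fin n) R] Slice g) ⊗ₜ[B] t ≠ 0 := by
  classical
  let P := MvPolynomial (Fin n) R
  haveI : Module.Flat P B := inferInstance
  haveI : Module.Flat R B := Module.Flat.trans R P B
  haveI : Module.Flat R M := Module.Flat.trans R B M
  obtain ⟨p, ⟨x, hx0, ⟨r, rfl⟩, rfl⟩, hmax⟩ := set_has_maximal_iff_noetherian.mpr inferInstance
    {I : Ideal R | ∃ x : M, x ≠ 0 ∧ (∃ r : R, x = r • t) ∧ LinearMap.ker (LinearMap.toSpanSingleton R M x) = I}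
    ⟨_, t, ht, ⟨1, (one_smul R t).symm⟩, rfl⟩
  set t' := r • t
  set p : Ideal R := LinearMap.ker (LinearMap.toSpanSingleton R M t')
  have hp : ∀ a, a ∈ p ↔ a • t' = 0 := fun a => Iff.rfl
  haveI hpp : Ideal.IsPrime p := by
    refine ⟨fun h => hx0 ?_, fun {a b} hab => ?_⟩
    · simpa using (hp 1).mp (h ▸ Submodule.mem_top)
    · by_contra hc
      push Not at hc
      have hle : p ≤ LinearMap.ker (LinearMap.toSpanSingleton R M (b • t')) := fun c hc => by
        show c • b • t' = 0
        rw [smul_comm, (hp c).mp hc, smul_zero]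
      refine hmax _ ⟨b • t', fun h => hc.2 ((hp b).mpr h), ⟨b * r, smul_smul b r t⟩, rfl⟩
        (lt_of_le_not_ge hle fun h => hc.1 (h ?_))
      show a • b • t' = 0
      rw [smul_smul]
      exact (hp _).mp hab
  obtain ⟨S, hS⟩ := IsNoetherian.noetherian p
  let δ : R →ₗ[R] (↥S → R) := LinearMap.pi fun j => LinearMap.mulRight R (j : R)
  let V := LinearMap.ker δ
  have hV : ∀ a ∈ p, ∀ v : V, a • v = 0 := by
    intro a ha v
    apply Subtype.ext
    show a * (v : R) = 0
    rw [← hS] at ha
    induction ha using Submodule.span_induction with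
    | mem a ha => rw [mul_comm]; exact congrFun v.2 ⟨a, ha⟩
    | zero => exact zero_mul _
    | add a b _ _ ha hb => rw [add_mul, ha, hb, add_zero]
    | smul c a _ ha => rw [smul_eq_mul, mul_assoc, ha, mul_zero]
  have hδ : δ.rTensor M (1 ⊗ₜ t') = 0 := by
    have : δ 1 = ∑ j : ↥S, (j : R) • Pi.single j (1 : R) := by
      funext j
      simp [δ, Finset.sum_apply, Pi.single_apply]
    rw [LinearMap.rTensor_tmul, this, sum_tmul]
    refine Finset.sum_eq_zero fun j _ => ?_
    rw [smul_tmul, (hp j).mp (hS ▸ Submodule.subset_span j.2), tmul_zero]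
  obtain ⟨τ, hτ⟩ := (Module.Flat.rTensor_exact M (LinearMap.exact_subtype_ker_map δ) _).mp hδ
  obtain ⟨lam, hlam⟩ := exists_functional p hV τ fun s hs h => hs ((hp s).mpr (by
    have := congrArg (V.subtype.rTensor M) h
    rw [map_smul, hτ, map_zero, smul_tmul'] at this
    have h2 := congrArg (TensorProduct.lid R M) this
    simpa using h2))
  obtain ⟨g, K, _, eκ, eB, hcomp, hpt, Ψ, hΨ, hΨb⟩ :=
    exists_point (n := n) (B := B) (A := A) p (lam.rTensor M τ) hlam
  refine ⟨g, fun h0 => hΨb ?_⟩
  let Q := B ⊗[P] Slice g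
  letI : Algebra B K := eB.toAlgebra
  letI : Algebra P K := (eB.comp (algebraMap P B)).toAlgebra
  haveI : IsScalarTower P B K := IsScalarTower.of_algebraMap_eq fun _ => rfl
  let eS : Slice g →ₐ[P] K :=
    { sliceLift g (algebraMap P K) (fun i => (hpt i).1) (fun i => isUnit_iff_ne_zero.mpr (hpt i).2) with
      commutes' := fun q => sliceLift_algebraMap g (algebraMap P K) _ _ q }
  let eQ : Q →ₐ[B] K := Algebra.TensorProduct.lift (Algebra.ofId B K) eS fun _ _ => Commute.all _ _
  let N := Q ⊗[B] M
  haveI : Algebra.Etale R Q := etale_detector g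
  haveI : Module.Flat R Q := inferInstance
  haveI : Module.Flat R N := Module.Flat.trans R Q N
  let ν : M →ₗ[R] N := (TensorProduct.mk B Q M 1).restrictScalars R
  have hνt : ν t' = 0 := by
    rw [map_smul]
    exact (congrArg (r • ·) h0).trans (smul_zero r)
  have hτN : ν.lTensor V τ = 0 := by
    apply Module.Flat.rTensor_preserves_injective_linearMap (M := N) V.subtype V.injective_subtype
    rw [map_zero]
    have h1 : V.subtype.rTensor N (ν.lTensor V τ) = ν.lTensor R (V.subtype.rTensor M τ) := by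
      rw [← LinearMap.comp_apply, LinearMap.rTensor_comp_lTensor, ← LinearMap.comp_apply,
        LinearMap.lTensor_comp_rTensor]
    rw [h1, hτ, LinearMap.lTensor_tmul, hνt, tmul_zero]
  let Φ₀ : N →ₗ[B] K ⊗[B] M := eQ.toLinearMap.rTensor M
  let F : p.ResidueField →+ (N →+ K ⊗[B] M) :=
    { toFun := fun c => (DistribSMul.toAddMonoidHom (K ⊗[B] M) (eκ c)).comp Φ₀.toAddMonoidHom
      map_zero' := AddMonoidHom.ext fun z => by simp
      map_add' := fun c d => AddMonoidHom.ext fun z => by simp [add_smul] }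
  let Φ : p.ResidueField ⊗[R] N →+ K ⊗[B] M := TensorProduct.liftAddHom F fun a c z => by
    show eκ (a • c) • Φ₀ z = eκ c • Φ₀ (a • z)
    rw [Algebra.smul_def, map_mul, ← algebraMap_smul B a z, map_smul,
      ← algebraMap_smul K (algebraMap R B a) (Φ₀ z), smul_smul, mul_comm (eκ c)]
    have h3 : eκ (algebraMap R p.ResidueField a) = algebraMap B K (algebraMap R B a) :=
      RingHom.congr_fun hcomp a
    rw [h3]
  have key : ∀ z : p.ResidueField ⊗[R] M, Φ (ν.lTensor _ z) = Ψ z := by
    intro z
    induction z using TensorProduct.induction_on with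
    | zero => simp
    | tmul c m =>
      rw [hΨ, LinearMap.lTensor_tmul]
      show eκ c • (eQ.toLinearMap.rTensor M) ((1 : Q) ⊗ₜ[B] m) = _
      rw [LinearMap.rTensor_tmul]
      show eκ c • (eQ 1 ⊗ₜ[B] m) = _
      rw [map_one, smul_tmul', smul_eq_mul, mul_one]
    | add a b ha hb => simp [map_add, ha, hb]
  rw [← key, ← LinearMap.comp_apply, LinearMap.lTensor_comp_rTensor, ← LinearMap.rTensor_comp_lTensor,
    LinearMap.comp_apply, hτN, map_zero, map_zero]

end EtSlice6
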