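import Mathlib.RingTheory.Smooth.NoetherianDescent
import Mathlib.RingTheory.RingHom.StandardSmooth
import Mathlib.RingTheory.Smooth.Flat
import Groth.Agent.Lib.Approx6.Ring
import Groth.Agent.Lib.FlatModel.Descent
import Groth.Agent.Lib.EtSlice6.Noeth

/-!
# Slices detect elements of flat algebras over standard smooth algebras, any base
-/

set_option autoImplicit false
universe u

open MvPolynomial TensorProduct

namespace EtSlice6

attribute [local instance] MvPolynomial.algebraMvPolynomial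

theorem exists_detector {R B C : Type u} [CommRing R] [CommRing B] [CommRing C] [Algebra R B]
    [Algebra.IsStandardSmooth R B] [Algebra B C] [Algebra.FinitePresentation B C] [Module.Flat B C]
    {t : C} (ht : t ≠ 0) :
    ∃ (Q : Type u) (_ : CommRing Q) (_ : Algebra R Q) (ψ : B →ₐ[R] Q),
      Algebra.Etale R Q ∧ IsLocSurj ψ.toRingHom ∧
      (letI := ψ.toRingHom.toAlgebra; (1 : Q) ⊗ₜ[B] t ≠ 0) := by
  classical
  -- a flat model of `C` over a finitely generated subring of `B`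
  obtain ⟨m, π, hπ, hker⟩ := Algebra.FinitePresentation.out (R := B) (A := C)
  letI : Module (MvPolynomial (Fin m) B) C := Module.compHom C π.toRingHom
  haveI : IsScalarTower B (MvPolynomial (Fin m) B) C :=
    IsScalarTower.of_algebraMap_smul fun b c => by
      show π (algebraMap B (MvPolynomial (Fin m) B) b) * c = b • c
      rw [AlgHom.commutes, Algebra.smul_def]
  haveI : Module.FinitePresentation (MvPolynomial (Fin m) B) C := by
    let lπ : MvPolynomial (Fin m) B →ₗ[MvPolynomial (Fin m) B] C :=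
      { toFun := π, map_add' := map_add π, map_smul' := fun a b => map_mul π a b }
    exact Module.finitePresentation_of_surjective lπ hπ hker
  obtain ⟨B₃, _, _, hB₃, g₃, N, _, _, _, _, hNfin, hNflat, -, -, ⟨e⟩⟩ :=
    GrothLib.FlatModel.exists_flat_model (R := B) (m := m) C (q := 0) (fun i => Fin.elim0 i)
      (fun i => Fin.elim0 i)
  let e' : B ⊗[B₃] N ≃ₗ[B] C :=
    (Algebra.IsPushout.cancelBaseChange B₃ B (MvPolynomial (Fin m) B₃) (MvPolynomial (Fin m) B) N).symm ≪≫ₗ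
      e.restrictScalars B
  obtain ⟨s, hs⟩ := TensorProduct.exists_finset (e'.symm t)
  obtain ⟨G, hG⟩ := hB₃.out
  -- a standard smooth model of `B`
  obtain ⟨ι₀, σ₀, _, _, ⟨Pr⟩⟩ := Algebra.IsStandardSmooth.out (R := R) (S := B)
  haveI : Algebra.IsStandardSmoothOfRelativeDimension Pr.dimension R B :=
    ⟨ι₀, σ₀, inferInstance, inferInstance, Pr, rfl⟩
  let n := Pr.dimension
  obtain ⟨A₀, B₀, _, _, hA₀, _, ⟨eB⟩⟩ :=
    Algebra.IsStandardSmoothOfRelativeDimension.exists_subalgebra_fg ℤ R B n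
  obtain ⟨S, B₁, _, _, _, _, j, e₂, hj, hje, hrange, hb⟩ : ∃ (S : Subalgebra A₀ R) (B₁ : Type u)
      (_ : CommRing B₁) (_ : Algebra S B₁)
      (_ : Algebra.IsStandardSmoothOfRelativeDimension n S B₁) (_ : IsNoetherianRing S)
      (j : B₁ →+* B) (e₂ : B ≃ₐ[R] R ⊗[S] B₁),
      Function.Injective j ∧ (∀ b, e₂ (j b) = (1 : R) ⊗ₜ[S] b) ∧
      (∀ x : B₃, ∃ z, j z = algebraMap B₃ B x) ∧ (∀ p ∈ s, ∃ z : B₁, j z = p.1) := by
    haveI : Algebra.FiniteType ℤ A₀ := (Subalgebra.fg_iff_finiteType A₀).mp hA₀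
    haveI : IsNoetherianRing A₀ := Algebra.FiniteType.isNoetherianRing ℤ A₀
    obtain ⟨S, hS, hSx⟩ := GrothLib.Approx6.exists_stage_lift (A₀ := A₀) (A := R) B₀
      ((G.image fun x => eB (algebraMap B₃ B x)) ∪ s.image fun p => eB p.1)
    haveI : Algebra.FiniteType A₀ S := (Subalgebra.fg_iff_finiteType S).mp hS
    haveI : IsNoetherianRing S := Algebra.FiniteType.isNoetherianRing A₀ S
    let e₁ : R ⊗[S] ((S : Type u) ⊗[A₀] B₀) ≃ₐ[R] R ⊗[A₀] B₀ :=
      Algebra.TensorProduct.cancelBaseChange A₀ S R R B₀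
    let j : (S : Type u) ⊗[A₀] B₀ →+* B :=
      eB.symm.toRingEquiv.toRingHom.comp (GrothLib.Approx6.toA B₀ S).toRingHom
    haveI : Algebra.IsStandardSmooth A₀ B₀ :=
      Algebra.IsStandardSmoothOfRelativeDimension.isStandardSmooth n
    haveI : Module.Flat A₀ B₀ := inferInstance
    have hj : Function.Injective j := by
      refine eB.symm.injective.comp ?_
      exact Module.Flat.rTensor_preserves_injective_linearMap (M := B₀) S.val.toLinearMap
        Subtype.val_injective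
    refine ⟨S, (S : Type u) ⊗[A₀] B₀, inferInstance, inferInstance, inferInstance, inferInstance, j,
      eB.trans e₁.symm, hj, fun b => ?_, fun x => ?_, fun p hp => ?_⟩
    · show e₁.symm (eB (eB.symm (GrothLib.Approx6.toA B₀ S b))) = _
      rw [AlgEquiv.apply_symm_apply, AlgEquiv.symm_apply_eq]
      induction b using TensorProduct.induction_on with
      | zero => simp
      | tmul r b =>
        simp only [GrothLib.Approx6.toA, Algebra.TensorProduct.map_tmul, e₁,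
          Algebra.TensorProduct.cancelBaseChange_tmul, AlgHom.id_apply]
        rw [Algebra.smul_def, mul_one]
        rfl
      | add x y hx hy => rw [map_add, tmul_add, map_add, hx, hy]
    · have hx : x ∈ Algebra.adjoin ℤ (G : Set B₃) := hG ▸ trivial
      induction hx using Algebra.adjoin_induction with
      | mem y hy =>
        obtain ⟨z, hz⟩ := hSx (eB (algebraMap B₃ B y))
          (Finset.mem_union_left _ (Finset.mem_image_of_mem _ hy))
        exact ⟨z, (congrArg eB.symm hz).trans (eB.symm_apply_apply _)⟩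
      | algebraMap c =>
        rw [show algebraMap ℤ B₃ c = (c : B₃) from rfl, map_intCast]
        exact ⟨c, map_intCast j c⟩
      | add y z _ _ hy hz =>
        obtain ⟨a, ha⟩ := hy
        obtain ⟨b, hb⟩ := hz
        exact ⟨a + b, by rw [map_add, map_add, ha, hb]⟩
      | mul y z _ _ hy hz =>
        obtain ⟨a, ha⟩ := hy
        obtain ⟨b, hb⟩ := hz
        exact ⟨a * b, by rw [map_mul, map_mul, ha, hb]⟩
    · obtain ⟨z, hz⟩ := hSx (eB p.1) (Finset.mem_union_right _ (Finset.mem_image_of_mem _ hp))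
      exact ⟨z, (congrArg eB.symm hz).trans (eB.symm_apply_apply _)⟩
  choose β₀ hβ₀ using hrange
  let β : B₃ →+* B₁ :=
    { toFun := β₀
      map_one' := hj (by rw [hβ₀, map_one, map_one])
      map_mul' := fun x y => hj (by rw [map_mul, hβ₀, hβ₀, hβ₀, map_mul])
      map_zero' := hj (by rw [hβ₀, map_zero, map_zero])
      map_add' := fun x y => hj (by rw [map_add, hβ₀, hβ₀, hβ₀, map_add]) }
  choose! z hz using hb
  letI : Algebra B₃ B₁ := β.toAlgebra
  letI : Algebra B₁ B := j.toAlgebra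
  haveI : IsScalarTower B₃ B₁ B := IsScalarTower.of_algebraMap_eq fun x => (hβ₀ x).symm
  -- the module over the model
  let A₁ := B₁ ⊗[B₃] MvPolynomial (Fin m) B₃
  letI : Algebra (MvPolynomial (Fin m) B₃) A₁ := Algebra.TensorProduct.rightAlgebra
  let M₁ := A₁ ⊗[MvPolynomial (Fin m) B₃] N
  let eM : M₁ ≃ₗ[B₁] B₁ ⊗[B₃] N :=
    Algebra.IsPushout.cancelBaseChange B₃ B₁ (MvPolynomial (Fin m) B₃) A₁ N
  haveI : Module.Flat B₁ M₁ := Module.Flat.of_linearEquiv eM
  let t₁ : B₁ ⊗[B₃] N := ∑ p ∈ s, z p ⊗ₜ p.2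
  let ι : B₁ →ₗ[B₃] B := (IsScalarTower.toAlgHom B₃ B₁ B).toLinearMap
  have ht₁j : ι.rTensor N t₁ = e'.symm t := by
    rw [hs, map_sum]
    refine Finset.sum_congr rfl fun p hp => ?_
    rw [LinearMap.rTensor_tmul]
    show j (z p) ⊗ₜ[B₃] p.2 = _
    rw [hz p hp]
  have ht₁ : t₁ ≠ 0 := fun h => ht (e'.symm.map_eq_zero_iff.mp (by rw [← ht₁j, h, map_zero]))
  obtain ⟨φ, hφ⟩ := Algebra.IsStandardSmoothOfRelativeDimension.exists_etale_mvPolynomial n S B₁
  letI : Algebra (MvPolynomial (Fin n) S) B₁ := φ.toRingHom.toAlgebra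
  haveI : IsScalarTower S (MvPolynomial (Fin n) S) B₁ :=
    IsScalarTower.of_algebraMap_eq fun r => (φ.commutes r).symm
  haveI : Algebra.Etale (MvPolynomial (Fin n) S) B₁ := RingHom.etale_algebraMap.mp hφ
  obtain ⟨g, hg⟩ := exists_detect (R := S) (n := n) (B := B₁) (A := A₁) (M := M₁) (t := eM.symm t₁)
    fun h => ht₁ (eM.symm.map_eq_zero_iff.mp h)
  let Q₁ := B₁ ⊗[MvPolynomial (Fin n) S] Slice g
  haveI : Algebra.Etale S Q₁ := etale_detector g
  let ψ₁ : B₁ →ₐ[S] Q₁ := IsScalarTower.toAlgHom S B₁ Q₁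
  have hψ₁ : IsLocSurj ψ₁.toRingHom := by
    obtain ⟨G₁, hG₁, hsurj⟩ := isLocSurj_slice g
    let inr : Slice g →+* Q₁ := Algebra.TensorProduct.includeRight.toRingHom
    have hinr : ∀ p, inr (algebraMap (MvPolynomial (Fin n) S) (Slice g) p) = ψ₁ (algebraMap _ B₁ p) :=
      fun p => by
        show (1 : B₁) ⊗ₜ algebraMap _ (Slice g) p = algebraMap _ B₁ p ⊗ₜ (1 : Slice g)
        rw [Algebra.algebraMap_eq_smul_one, Algebra.algebraMap_eq_smul_one (A := B₁), smul_tmul]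
    refine ⟨algebraMap _ B₁ G₁, ?_, fun q => ?_⟩
    · show IsUnit (ψ₁ _)
      rw [← hinr]
      exact hG₁.map inr
    show ∃ k b, q * ψ₁ _ ^ k = ψ₁ b
    induction q using TensorProduct.induction_on with
    | zero => exact ⟨0, 0, by simp⟩
    | tmul b x =>
      obtain ⟨k, p, hk⟩ := hsurj x
      refine ⟨k, b * algebraMap _ B₁ p, ?_⟩
      rw [map_mul, ← hinr, ← hinr, ← map_pow, ← hk, map_mul, ← mul_assoc]
      congr 1
      show b ⊗ₜ x = (b ⊗ₜ (1 : Slice g)) * ((1 : B₁) ⊗ₜ x)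
      rw [Algebra.TensorProduct.tmul_mul_tmul, mul_one, one_mul]
    | add q₁ q₂ h₁ h₂ =>
      obtain ⟨k₁, b₁, e₁'⟩ := h₁
      obtain ⟨k₂, b₂, e₂'⟩ := h₂
      refine ⟨k₁ + k₂, b₁ * algebraMap _ B₁ G₁ ^ k₂ + b₂ * algebraMap _ B₁ G₁ ^ k₁, ?_⟩
      rw [map_add, map_mul, map_mul, map_pow, map_pow, ← e₁', ← e₂']
      ring
  obtain ⟨Q, _, _, ψ, hQ, hψ, i₀, hi₀, hcomp⟩ : ∃ (Q : Type u) (_ : CommRing Q) (_ : Algebra R Q)
      (ψ : B →ₐ[R] Q), Algebra.Etale R Q ∧ IsLocSurj ψ.toRingHom ∧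
      ∃ i₀ : Q₁ →+* Q, Function.Injective i₀ ∧ ∀ b : B₁, ψ (j b) = i₀ (ψ₁ b) := by
    let F : R ⊗[S] B₁ →ₐ[R] R ⊗[S] Q₁ := Algebra.TensorProduct.map (AlgHom.id R R) ψ₁
    refine ⟨R ⊗[S] Q₁, inferInstance, inferInstance, F.comp e₂.toAlgHom, inferInstance, ?_,
      (Algebra.TensorProduct.includeRight (R := S) (A := R) (B := Q₁)).toRingHom, ?_, fun b => ?_⟩
    · have h := IsLocSurj.tensorMap (R := S) (S := R) (B := B₁) (Q := Q₁) ψ₁ hψ₁
      exact IsLocSurj.comp_bijective (A := B) (B := R ⊗[S] B₁) e₂.toRingEquiv _ h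
    · haveI : Module.Flat S Q₁ := inferInstance
      have h1 := Module.Flat.rTensor_preserves_injective_linearMap (M := Q₁)
        (Algebra.linearMap S R) Subtype.val_injective
      intro a b hab
      have h2 : (Algebra.linearMap S R).rTensor Q₁ ((TensorProduct.lid S Q₁).symm a) =
          (Algebra.linearMap S R).rTensor Q₁ ((TensorProduct.lid S Q₁).symm b) := by
        simpa using! hab
      exact (TensorProduct.lid S Q₁).symm.injective (h1 h2)
    · show F (e₂ (j b)) = _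
      rw [hje]
      rfl
  refine ⟨Q, inferInstance, inferInstance, ψ, hQ, hψ, ?_⟩
  letI : Algebra B Q := ψ.toRingHom.toAlgebra
  intro h0
  letI : Algebra B₁ Q := (ψ.toRingHom.comp j).toAlgebra
  haveI : IsScalarTower B₁ B Q := IsScalarTower.of_algebraMap_eq fun _ => rfl
  letI : Algebra B₃ Q := (ψ.toRingHom.comp (algebraMap B₃ B)).toAlgebra
  haveI : IsScalarTower B₃ B Q := IsScalarTower.of_algebraMap_eq fun _ => rfl
  let i : Q₁ →ₗ[B₃] Q :=
    { toFun := i₀
      map_add' := map_add i₀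
      map_smul' := fun x q => by
        rw [RingHom.id_apply, ← algebraMap_smul B₁ x q, Algebra.smul_def (R := B₃) x (i₀ q),
          IsScalarTower.algebraMap_apply B₃ B Q, IsScalarTower.algebraMap_apply B₃ B₁ B]
        show i₀ (algebraMap B₃ B₁ x • q) = ψ (j (algebraMap B₃ B₁ x)) * i₀ q
        rw [hcomp, ← map_mul]
        congr 1
        exact Algebra.smul_def (R := B₁) (A := Q₁) _ q }
  have hi : Function.Injective i := hi₀
  let e₃ : Q₁ ⊗[B₁] (B₁ ⊗[B₃] N) ≃ₗ[Q₁] Q₁ ⊗[B₃] N :=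
    AlgebraTensorModule.cancelBaseChange B₃ B₁ Q₁ Q₁ N
  let e₄ : Q ⊗[B] (B ⊗[B₃] N) ≃ₗ[Q] Q ⊗[B₃] N :=
    AlgebraTensorModule.cancelBaseChange B₃ B Q Q N
  have h1 : e₃ ((1 : Q₁) ⊗ₜ[B₁] t₁) = ∑ p ∈ s, ψ₁ (z p) ⊗ₜ[B₃] p.2 := by
    rw [tmul_sum, map_sum]
    refine Finset.sum_congr rfl fun p _ => ?_
    rw [AlgebraTensorModule.cancelBaseChange_tmul]
    congr 1
    exact (Algebra.algebraMap_eq_smul_one (R := B₁) (A := Q₁) (z p)).symm
  have h2 : e₄ ((1 : Q) ⊗ₜ[B] e'.symm t) = ∑ p ∈ s, ψ p.1 ⊗ₜ[B₃] p.2 := by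
    rw [hs, tmul_sum, map_sum]
    refine Finset.sum_congr rfl fun p _ => ?_
    rw [AlgebraTensorModule.cancelBaseChange_tmul, Algebra.smul_def, mul_one]
    rfl
  have h3 : i.rTensor N (e₃ ((1 : Q₁) ⊗ₜ[B₁] t₁)) = e₄ ((1 : Q) ⊗ₜ[B] e'.symm t) := by
    rw [h1, h2, map_sum]
    refine Finset.sum_congr rfl fun p hp => ?_
    rw [LinearMap.rTensor_tmul]
    show i₀ (ψ₁ (z p)) ⊗ₜ[B₃] p.2 = _
    rw [← hcomp, hz p hp]
  apply hg
  have h4 : (1 : Q₁) ⊗ₜ[B₁] t₁ = 0 := by
    refine e₃.map_eq_zero_iff.mp (Module.Flat.rTensor_preserves_injective_linearMap (M := N) i hi ?_)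
    rw [h3, map_zero]
    have := congrArg (LinearMap.baseChange Q e'.symm.toLinearMap) h0
    rw [LinearMap.baseChange_tmul, map_zero] at this
    rw [show (1 : Q) ⊗ₜ[B] e'.symm t = 0 from this, map_zero]
  have h5 := congrArg (LinearMap.baseChange Q₁ eM.symm.toLinearMap) h4
  rw [LinearMap.baseChange_tmul, map_zero] at h5
  exact h5

end EtSlice6
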