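import Mathlib.AlgebraicGeometry.Morphisms.Smooth
import Mathlib.AlgebraicGeometry.Morphisms.Etale
import Mathlib.AlgebraicGeometry.Morphisms.Flat
import Mathlib.AlgebraicGeometry.Morphisms.FinitePresentation
import Mathlib.AlgebraicGeometry.Pullbacks
import Groth.Agent.Lib.EtSlice6.Descent

/-!
# Immersed étale slices of a smooth morphism are schematically dominant
-/

set_option autoImplicit false
universe u

open CategoryTheory CategoryTheory.Limits AlgebraicGeometry TopologicalSpace Opposite TensorProduct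

namespace EtSlice6

theorem eq_zero_of_slices {S S' B' : Scheme.{u}} (g : S' ⟶ S) [Smooth g]
    (q : B' ⟶ S') [Flat q] [LocallyOfFinitePresentation q] (V : B'.Opens) (t : Γ(B', V))
    (h : ∀ (Z : Scheme.{u}) (j : Z ⟶ S'), IsImmersion j → Etale (j ≫ g) →
      (pullback.snd j q).app V t = 0) : t = 0 := by
  refine B'.IsSheaf.section_ext fun x hx => ?_
  obtain ⟨U, hU, W, hW, hxW, e, hstd⟩ := Smooth.exists_isStandardSmooth g (q x)
  obtain ⟨_, ⟨W', hW', rfl⟩, hxW', hW'sub⟩ :=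
    B'.isBasis_affineOpens.exists_subset_of_mem_open
      (show x ∈ ((V ⊓ q ⁻¹ᵁ W : B'.Opens) : Set B') from ⟨hx, hxW⟩) (V ⊓ q ⁻¹ᵁ W).isOpen
  have hV : W' ≤ V := fun z hz => (hW'sub hz).1
  have hq : W' ≤ q ⁻¹ᵁ W := fun z hz => (hW'sub hz).2
  refine ⟨W', hV, hxW', ?_⟩
  rw [map_zero]
  by_contra ht
  letI : Algebra Γ(S, U) Γ(S', W) := (g.appLE U W e).hom.toAlgebra
  letI : Algebra Γ(S', W) Γ(B', W') := (q.appLE W W' hq).hom.toAlgebra
  haveI : Algebra.IsStandardSmooth Γ(S, U) Γ(S', W) := RingHom.isStandardSmooth_algebraMap.mp hstd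
  haveI : Module.Flat Γ(S', W) Γ(B', W') := q.flat_appLE hW hW' hq
  haveI : Algebra.FinitePresentation Γ(S', W) Γ(B', W') :=
    RingHom.finitePresentation_algebraMap.mp
      (HasRingHomProperty.appLE (P := @LocallyOfFinitePresentation) q inferInstance ⟨W, hW⟩ ⟨W', hW'⟩ hq)
  obtain ⟨Q, _, _, ψ, hQ, hψ, hne⟩ :=
    exists_detector (R := Γ(S, U)) (B := Γ(S', W)) (C := Γ(B', W')) ht
  letI : Algebra Γ(S', W) Q := ψ.toRingHom.toAlgebra
  let C' : Type u := Q ⊗[Γ(S', W)] Γ(B', W')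
  let ι₁ : CommRingCat.of Q ⟶ CommRingCat.of C' :=
    CommRingCat.ofHom (Algebra.TensorProduct.includeLeftRingHom)
  let ι₂ : Γ(B', W') ⟶ CommRingCat.of C' :=
    CommRingCat.ofHom (Algebra.TensorProduct.includeRight (R := Γ(S', W)) (A := Q)).toRingHom
  let j : Spec (CommRingCat.of Q) ⟶ S' := Spec.map (CommRingCat.ofHom ψ.toRingHom) ≫ hW.fromSpec
  let a : Spec (CommRingCat.of C') ⟶ B' := Spec.map ι₂ ≫ hW'.fromSpec
  haveI : IsImmersion (Spec.map (CommRingCat.ofHom ψ.toRingHom)) :=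
    IsLocSurj.isImmersion (CommRingCat.ofHom ψ.toRingHom) hψ
  have hj : Etale (j ≫ g) := by
    have h1 : j ≫ g = Spec.map (CommRingCat.ofHom (algebraMap Γ(S, U) Q)) ≫ hU.fromSpec := by
      simp only [j, Category.assoc]
      rw [← IsAffineOpen.SpecMap_appLE_fromSpec g hU hW e, ← Category.assoc, ← Spec.map_comp]
      congr 2
      ext r
      exact ψ.commutes r
    rw [h1]
    haveI : Etale (Spec.map (CommRingCat.ofHom (algebraMap Γ(S, U) Q))) :=
      HasRingHomProperty.Spec_iff.mpr (RingHom.etale_algebraMap.mpr hQ)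
    infer_instance
  have hcomm : Spec.map ι₁ ≫ j = a ≫ q := by
    simp only [j, a, Category.assoc]
    rw [← IsAffineOpen.SpecMap_appLE_fromSpec q hW hW' hq, ← Category.assoc, ← Spec.map_comp,
      ← Category.assoc (Spec.map ι₂), ← Spec.map_comp]
    congr 2
    ext b
    show (algebraMap Γ(S', W) Q b) ⊗ₜ[Γ(S', W)] (1 : Γ(B', W')) =
      (1 : Q) ⊗ₜ[Γ(S', W)] algebraMap Γ(S', W) Γ(B', W') b
    rw [Algebra.algebraMap_eq_smul_one, Algebra.algebraMap_eq_smul_one (A := Γ(B', W')), smul_tmul]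
  have h0 := h (Spec (CommRingCat.of Q)) j inferInstance hj
  have ha : a.app V t = 0 := by
    rw [← pullback.lift_snd (Spec.map ι₁) a hcomm, Scheme.Hom.comp_app]
    show (pullback.lift (Spec.map ι₁) a hcomm).app _ ((pullback.snd j q).app V t) = 0
    rw [h0, map_zero]
  apply hne
  have htop : ∀ z : Spec (CommRingCat.of C'), z ∈ a ⁻¹ᵁ V := fun z =>
    hV (hW'.range_fromSpec.le ⟨Spec.map ι₂ z, rfl⟩)
  have h2 : a.appLE V ⊤ (fun z _ => htop z) t = 0 := by
    rw [Scheme.Hom.appLE, CommRingCat.comp_apply, ha, map_zero]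
  have h3 : a.appLE V ⊤ (fun z _ => htop z) =
      B'.presheaf.map (homOfLE hV).op ≫ ι₂ ≫ (Scheme.ΓSpecIso (CommRingCat.of C')).inv := by
    have hpre : ⊤ ≤ Spec.map ι₂ ⁻¹ᵁ (hW'.fromSpec ⁻¹ᵁ V) := fun z _ => htop z
    show (Spec.map ι₂ ≫ hW'.fromSpec).appLE V ⊤ _ = _
    rw [Scheme.Hom.comp_appLE (Spec.map ι₂) hW'.fromSpec V ⊤ hpre,
      hW'.fromSpec_app_of_le V hV, Category.assoc, Category.assoc, Scheme.Hom.map_appLE]
    rw [Scheme.ΓSpecIso_inv_naturality]
    simp [Scheme.Hom.appLE]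
  rw [h3, CommRingCat.comp_apply, CommRingCat.comp_apply] at h2
  exact (map_eq_zero_iff _
    (ConcreteCategory.bijective_of_isIso (Scheme.ΓSpecIso (CommRingCat.of C')).inv).1).mp h2

end EtSlice6
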